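import Groth.Agent.WLocalLib.Reduced
import Groth.Agent.S0426Lib

/-!
Weakly étale algebras over fields.
-/

set_option autoImplicit false

open scoped TensorProduct

universe u

namespace Groth.Agent.WEField

open Groth.Agent.WLocalLib

theorem flat_of_reduced_dimZero {C : Type u} [CommRing C] [IsReduced C]
    (h : ∀ P : Ideal C, P.IsPrime → P.IsMaximal) (M : Type u) [AddCommGroup M] [Module C M] : Module.Flat C M := by
  refine Module.flat_of_localized_maximal M fun P hP => ?_
  haveI : Ring.KrullDimLE 0 C := Ring.KrullDimLE.mk₀ h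
  haveI : Ring.KrullDimLE 0 (Localization.AtPrime P) :=
    Ring.KrullDimLE.mk₀ fun Q hQ => by
      have h1 : Q ≤ IsLocalRing.maximalIdeal (Localization.AtPrime P) := IsLocalRing.le_maximalIdeal hQ.ne_top
      have h2 : Q.under C = P := by
        refine (h _ inferInstance).eq_of_le hP.ne_top ?_
        exact (Ideal.comap_mono h1).trans Localization.AtPrime.comap_maximalIdeal.le
      rw [show Q = IsLocalRing.maximalIdeal (Localization.AtPrime P) from by
        rw [← IsLocalization.map_comap P.primeCompl (Localization.AtPrime P) Q, h2]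
        exact Localization.AtPrime.map_eq_maximalIdeal]
      exact IsLocalRing.maximalIdeal.isMaximal _
  letI : Field (Localization.AtPrime P) := Ring.KrullDimLE.isField_of_isReduced.toField
  haveI : Module.Flat (Localization.AtPrime P) (LocalizedModule P.primeCompl M) := inferInstance
  exact Module.Flat.trans C (Localization.AtPrime P) (LocalizedModule P.primeCompl M)

variable {K : Type u} [Field K]

theorem weaklyEtale_of_isIntegral (S : Type u) [CommRing S] [Algebra K S] [Algebra.IsIntegral K S]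
    [IsReduced (S ⊗[K] S)] : Algebra.WeaklyEtale K S := by
  refine ⟨inferInstance, ?_⟩
  letI := (Algebra.TensorProduct.lmul' K (S := S)).toRingHom.toAlgebra
  haveI : Algebra.IsIntegral K (S ⊗[K] S) := Algebra.IsIntegral.trans (A := S)
  exact flat_of_reduced_dimZero (C := S ⊗[K] S) (fun P hP => by
    haveI := hP
    haveI : (P.under K).IsMaximal := by rw [Ideal.eq_bot_of_prime (P.under K)]; exact Ideal.bot_isMaximal
    exact Ideal.isMaximal_of_isIntegral_of_isMaximal_comap P ‹_›) S

theorem isReduced_tensor (B : Type u) [CommRing B] [Algebra K B] [Algebra.WeaklyEtale K B] :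
    IsReduced (B ⊗[K] B) := by
  haveI : IsReduced B := isReduced_of_weaklyEtale K B
  exact isReduced_of_weaklyEtale B (B ⊗[K] B)

theorem weaklyEtale_of_surjective {B C : Type u} [CommRing B] [CommRing C] [Algebra K B] [Algebra K C]
    [Algebra.WeaklyEtale K B] (φ : B →ₐ[K] C) (hφ : Function.Surjective φ) : Algebra.WeaklyEtale K C := by
  letI := φ.toRingHom.toAlgebra
  haveI : IsScalarTower K B C := IsScalarTower.of_algHom φ
  haveI : Module.Flat B C := flat_of_weaklyEtale (A := K) C
  haveI : TensorProduct.CompatibleSMul B C C C := ⟨fun c x y => by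
    obtain ⟨b, rfl⟩ := hφ c
    show (algebraMap B C b • x) ⊗ₜ[B] y = x ⊗ₜ[B] (algebraMap B C b • y)
    rw [algebraMap_smul, algebraMap_smul, TensorProduct.smul_tmul]⟩
  haveI : Algebra.WeaklyEtale B C := ⟨inferInstance, RingHom.Flat.of_bijective (by
    refine ⟨(injective_iff_map_eq_zero _).2 fun z hz => ?_, fun c => ⟨c ⊗ₜ 1, by simp⟩⟩
    have key : z = Algebra.TensorProduct.lmul' B (S := C) z ⊗ₜ 1 := by
      clear hz
      induction z using TensorProduct.induction_on with
      | zero => simp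
      | tmul x y =>
        rw [Algebra.TensorProduct.lmul'_apply_tmul, mul_comm, ← smul_eq_mul y x, TensorProduct.smul_tmul,
          smul_eq_mul, mul_one]
      | add x y hx hy => rw [map_add, TensorProduct.add_tmul, ← hx, ← hy]
    replace hz : Algebra.TensorProduct.lmul' B (S := C) z = 0 := hz
    rw [key, hz, TensorProduct.zero_tmul])⟩
  exact Algebra.WeaklyEtale.trans K B C

theorem isIntegral_of_weaklyEtale (B : Type u) [CommRing B] [Algebra K B] [Algebra.WeaklyEtale K B] :
    Algebra.IsIntegral K B := by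
  refine ⟨fun b => IsAlgebraic.isIntegral ?_⟩
  by_contra htr
  have hinj : Function.Injective (Polynomial.aeval b : Polynomial K →ₐ[K] B).toRingHom :=
    transcendental_iff_injective.mp htr
  obtain ⟨P, hP, hcom⟩ := Ideal.exists_comap_eq_of_mem_minimalPrimes (f := (Polynomial.aeval b).toRingHom) (I := ⊥)
    ⊥ (by
      rw [Ideal.comap_bot_of_injective _ hinj]
      exact ⟨⟨Ideal.isPrime_bot, le_rfl⟩, fun _ _ h => bot_le⟩)
  haveI := hP
  haveI : P.IsMaximal := isMaximal_of_weaklyEtale_field (K := K) P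
  letI := Ideal.Quotient.field P
  haveI : Algebra.WeaklyEtale K (B ⧸ P) := weaklyEtale_of_surjective (Ideal.Quotient.mkₐ K P) Ideal.Quotient.mk_surjective
  obtain ⟨p, hp0, hp⟩ := S0426Aux.isAlgebraic (K := K) (Ideal.Quotient.mk P b)
  refine hp0 ?_
  have hmem : p ∈ P.comap (Polynomial.aeval b).toRingHom := by
    show Polynomial.aeval b p ∈ P
    rw [← Ideal.Quotient.eq_zero_iff_mem, ← Ideal.Quotient.mkₐ_eq_mk K, ← Polynomial.aeval_algHom_apply]
    exact hp
  rwa [hcom.2] at hmem

theorem weaklyEtale_of_injective {S B : Type u} [CommRing S] [CommRing B] [Algebra K S] [Algebra K B]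
    [Algebra.WeaklyEtale K B] (φ : S →ₐ[K] B) (hφ : Function.Injective φ) : Algebra.WeaklyEtale K S := by
  haveI := isIntegral_of_weaklyEtale (K := K) B
  haveI : Algebra.IsIntegral K S := ⟨fun s => (isIntegral_algHom_iff φ hφ).1 (Algebra.IsIntegral.isIntegral (φ s))⟩
  haveI := isReduced_tensor (K := K) B
  haveI : IsReduced (S ⊗[K] S) := isReduced_of_injective (Algebra.TensorProduct.map φ φ)
    (TensorProduct.map_injective_of_flat_flat φ.toLinearMap φ.toLinearMap hφ hφ)
  exact weaklyEtale_of_isIntegral S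

theorem weaklyEtale_sup {A : Type u} [CommRing A] [Algebra K A] (S T : Subalgebra K A)
    [Algebra.WeaklyEtale K S] [Algebra.WeaklyEtale K T] : Algebra.WeaklyEtale K ↥(S ⊔ T) := by
  haveI : Algebra.WeaklyEtale K (S ⊗[K] T) := Algebra.WeaklyEtale.trans K S _
  let φ := Algebra.TensorProduct.productMap S.val T.val
  have hr : φ.range = S ⊔ T := by
    rw [Algebra.TensorProduct.productMap_range, Subalgebra.range_val, Subalgebra.range_val]
  rw [← hr]
  exact weaklyEtale_of_surjective φ.rangeRestrict (fun ⟨_, x, hx⟩ => ⟨x, Subtype.ext hx⟩)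

theorem weaklyEtale_sSup {A : Type u} [CommRing A] [Algebra K A] (𝒮 : Set (Subalgebra K A)) (hne : 𝒮.Nonempty)
    (hdir : DirectedOn (· ≤ ·) 𝒮) (h : ∀ S ∈ 𝒮, Algebra.WeaklyEtale K S) :
    Algebra.WeaklyEtale K ↥(sSup 𝒮) := by
  haveI : Nonempty 𝒮 := hne.to_subtype
  have hd : Directed (· ≤ ·) fun S : 𝒮 => (S : Subalgebra K A) := directedOn_iff_directed.1 hdir
  have hmem : ∀ x, x ∈ sSup 𝒮 ↔ ∃ S : 𝒮, x ∈ (S : Subalgebra K A) := fun x => by
    rw [sSup_eq_iSup', ← SetLike.mem_coe, Subalgebra.coe_iSup_of_directed hd, Set.mem_iUnion]; rfl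
  haveI : Algebra.IsIntegral K ↥(sSup 𝒮) := ⟨fun ⟨x, hx⟩ => by
    obtain ⟨S, hS⟩ := (hmem x).1 hx
    haveI := h _ S.2
    haveI := isIntegral_of_weaklyEtale (K := K) ↥(S : Subalgebra K A)
    exact (isIntegral_algHom_iff (sSup 𝒮).val Subtype.val_injective).1
      ((isIntegral_algHom_iff (S : Subalgebra K A).val Subtype.val_injective).2 (Algebra.IsIntegral.isIntegral ⟨x, hS⟩))⟩
  let inc : ∀ S : 𝒮, ↥(S : Subalgebra K A) →ₐ[K] ↥(sSup 𝒮) := fun S => Subalgebra.inclusion (le_sSup S.2)
  have hex : ∀ z : ↥(sSup 𝒮) ⊗[K] ↥(sSup 𝒮), ∃ (S : 𝒮) (w : ↥(S : Subalgebra K A) ⊗[K] ↥(S : Subalgebra K A)),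
      Algebra.TensorProduct.map (inc S) (inc S) w = z := by
    intro z
    induction z using TensorProduct.induction_on with
    | zero => exact ⟨Classical.arbitrary _, 0, map_zero _⟩
    | tmul x y =>
      obtain ⟨S, hS⟩ := (hmem x.1).1 x.2
      obtain ⟨T, hT⟩ := (hmem y.1).1 y.2
      obtain ⟨U, hSU, hTU⟩ := hd S T
      exact ⟨U, ⟨x.1, hSU hS⟩ ⊗ₜ ⟨y.1, hTU hT⟩, rfl⟩
    | add x y hx hy =>
      obtain ⟨S, w, rfl⟩ := hx
      obtain ⟨T, v, rfl⟩ := hy
      obtain ⟨U, hSU, hTU⟩ := hd S T
      refine ⟨U, Algebra.TensorProduct.map (Subalgebra.inclusion hSU) (Subalgebra.inclusion hSU) w +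
        Algebra.TensorProduct.map (Subalgebra.inclusion hTU) (Subalgebra.inclusion hTU) v, ?_⟩
      rw [map_add, ← AlgHom.comp_apply, ← AlgHom.comp_apply, ← Algebra.TensorProduct.map_comp, ← Algebra.TensorProduct.map_comp]
      rfl
  haveI : IsReduced (↥(sSup 𝒮) ⊗[K] ↥(sSup 𝒮)) := ⟨fun z hz => by
    obtain ⟨S, w, rfl⟩ := hex z
    haveI := h _ S.2
    haveI := isReduced_tensor (K := K) ↥(S : Subalgebra K A)
    have hinj : Function.Injective (Algebra.TensorProduct.map (inc S) (inc S)) :=
      TensorProduct.map_injective_of_flat_flat (inc S).toLinearMap (inc S).toLinearMap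
        (Subalgebra.inclusion_injective (le_sSup S.2)) (Subalgebra.inclusion_injective (le_sSup S.2))
    rw [((IsNilpotent.map_iff hinj).1 hz).eq_zero, map_zero]⟩
  exact weaklyEtale_of_isIntegral _

end Groth.Agent.WEField
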