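import Groth.Agent.TorLib.Basic
import Groth.Agent.WLocalLib.WeakEtale

set_option autoImplicit false

open scoped TensorProduct

universe u

namespace Groth.Agent.WEField

variable {A : Type u} [CommRing A]

theorem flat_of_torOne (K F N : Type u) [AddCommGroup K] [Module A K] [AddCommGroup F] [Module A F]
    [AddCommGroup N] [Module A N] [Module.Flat A F] (f : K →ₗ[A] F) (g : F →ₗ[A] N) (hf : Function.Injective f)
    (hg : Function.Surjective g) (hex : Function.Exact f g) (h : DRing.HasTorDimLE A 0 N) : Module.Flat A N := by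
  have hinj : ∀ (P : Type u) [AddCommGroup P] [Module A P], Function.Injective (f.rTensor P) := by
    intro P _ _
    haveI := h P 1 one_pos
    haveI := (TorLib.torOneEquivKer f g P hf hg hex).symm.injective.subsingleton
    rw [← LinearMap.ker_eq_bot]
    exact (Submodule.subsingleton_iff_eq_bot).1 ‹_›
  rw [Module.Flat.iff_lTensor_preserves_injective_linearMap]
  intro M' M _ _ _ _ ι hι
  refine (injective_iff_map_eq_zero _).2 fun x hx => ?_
  obtain ⟨y, rfl⟩ := LinearMap.rTensor_surjective M' hg x
  have h1 : g.rTensor M (ι.lTensor _ y) = 0 := by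
    rw [← LinearMap.comp_apply, LinearMap.rTensor_comp_lTensor, ← LinearMap.lTensor_comp_rTensor]; exact hx
  obtain ⟨z, hz⟩ := (rTensor_exact M hex hg _).1 h1
  let q := (LinearMap.range ι).mkQ
  have hq : Function.Exact ι q := LinearMap.exact_map_mkQ_range ι
  have h2 : q.lTensor K z = 0 := by
    apply hinj (M ⧸ LinearMap.range ι)
    rw [map_zero, ← LinearMap.comp_apply, LinearMap.rTensor_comp_lTensor, ← LinearMap.lTensor_comp_rTensor,
      LinearMap.comp_apply, hz, ← LinearMap.lTensor_comp_apply, hq.linearMap_comp_eq_zero, LinearMap.lTensor_zero,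
      LinearMap.zero_apply]
  obtain ⟨z', hz'⟩ := (lTensor_exact K hq (Submodule.mkQ_surjective _) z).1 h2
  have h3 : y = f.rTensor M' z' := by
    refine Module.Flat.lTensor_preserves_injective_linearMap (M := F) ι hι ?_
    rw [← hz, ← hz', ← LinearMap.comp_apply, LinearMap.rTensor_comp_lTensor, ← LinearMap.lTensor_comp_rTensor]; rfl
  rw [h3]
  exact (rTensor_exact M' hex hg _).2 ⟨z', rfl⟩

theorem torDim_shift_down (K F N : Type u) [AddCommGroup K] [Module A K] [AddCommGroup F] [Module A F]
    [AddCommGroup N] [Module A N] [Module.Flat A F] (f : K →ₗ[A] F) (g : F →ₗ[A] N) (hf : Function.Injective f)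
    (hg : Function.Surjective g) (hex : Function.Exact f g) (d : ℕ) (h : DRing.HasTorDimLE A (d + 1) N) :
    DRing.HasTorDimLE A d K := by
  intro Q _ _ q hq
  obtain ⟨r, rfl⟩ := Nat.exists_eq_succ_of_ne_zero (show q ≠ 0 by omega)
  haveI := h Q (r + 2) (by omega)
  exact (TorLib.torSuccEquiv f g Q hf hg hex r).symm.injective.subsingleton

theorem torDim_shift_up (K F N : Type u) [AddCommGroup K] [Module A K] [AddCommGroup F] [Module A F]
    [AddCommGroup N] [Module A N] [Module.Flat A F] (f : K →ₗ[A] F) (g : F →ₗ[A] N) (hf : Function.Injective f)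
    (hg : Function.Surjective g) (hex : Function.Exact f g) (d : ℕ) (h : DRing.HasTorDimLE A d K) :
    DRing.HasTorDimLE A (d + 1) N := by
  intro Q _ _ q hq
  obtain ⟨r, rfl⟩ : ∃ r, q = r + 2 := ⟨q - 2, by omega⟩
  haveI := h Q (r + 1) (by omega)
  exact (TorLib.torSuccEquiv f g Q hf hg hex r).injective.subsingleton

theorem exists_free_presentation (N : Type u) [AddCommGroup N] [Module A N] :
    ∃ (K F : Type u) (_ : AddCommGroup K) (_ : Module A K) (_ : AddCommGroup F) (_ : Module A F)
      (_ : Module.Free A F) (f : K →ₗ[A] F) (g : F →ₗ[A] N),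
      Function.Injective f ∧ Function.Surjective g ∧ Function.Exact f g :=
  ⟨LinearMap.ker (Finsupp.linearCombination A (id : N → N)), N →₀ A, inferInstance, inferInstance, inferInstance,
    inferInstance, inferInstance, (LinearMap.ker (Finsupp.linearCombination A (id : N → N))).subtype,
    Finsupp.linearCombination A (id : N → N), Subtype.val_injective, fun x => ⟨Finsupp.single x 1, by simp⟩,
    LinearMap.exact_subtype_ker_map _⟩

theorem torDim_ascend {B : Type u} [CommRing B] [Algebra A B] [Algebra.WeaklyEtale A B] :
    ∀ (d : ℕ) (N : Type u) [AddCommGroup N] [Module A N] [Module B N] [IsScalarTower A B N],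
      DRing.HasTorDimLE A d N → DRing.HasTorDimLE B d N := by
  intro d
  induction d with
  | zero =>
    intro N _ _ _ _ h P _ _ p hp
    obtain ⟨K, F, _, _, _, _, _, f, g, hf, hg, hex⟩ := exists_free_presentation (A := A) N
    haveI := flat_of_torOne K F N f g hf hg hex h
    haveI : Module.Flat B N := WLocalLib.flat_of_weaklyEtale (A := A) N
    obtain ⟨q, rfl⟩ := Nat.exists_eq_succ_of_ne_zero hp.ne'
    exact TorLib.subsingleton_tor_of_flat N P q
  | succ d ih =>
    intro N _ _ _ _ h
    obtain ⟨K, F, _, _, _, _, _, f, g, hf, hg, hex⟩ := exists_free_presentation (A := B) N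
    letI : Module A K := Module.compHom K (algebraMap A B)
    haveI : IsScalarTower A B K := IsScalarTower.of_algebraMap_smul fun _ _ => rfl
    letI : Module A F := Module.compHom F (algebraMap A B)
    haveI : IsScalarTower A B F := IsScalarTower.of_algebraMap_smul fun _ _ => rfl
    haveI : Module.Flat A F := Module.Flat.trans A B F
    exact torDim_shift_up K F N f g hf hg hex d (ih K
      (torDim_shift_down K F N (f.restrictScalars A) (g.restrictScalars A) hf hg hex d h))

end Groth.Agent.WEField
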