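import Groth.Agent.WEField.Basic
import Groth.Agent.ProEtLib2.IndEtaleWeakly
import Groth.Agent.FpqcDesc.Stalk
import Groth.Agent.AffLim.Presentation

set_option autoImplicit false

open scoped TensorProduct
open CategoryTheory CategoryTheory.Limits

universe u

namespace Groth.Agent.WEField

theorem formallyUnramified_of_weaklyEtale (A B : Type u) [CommRing A] [CommRing B] [Algebra A B]
    [Algebra.WeaklyEtale A B] : Algebra.FormallyUnramified A B := by
  rw [Algebra.formallyUnramified_iff, KaehlerDifferential, Ideal.cotangent_subsingleton_iff]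
  refine le_antisymm Ideal.mul_le_left fun a ha => ?_
  obtain ⟨s, hs, hsa⟩ := WLocalLib.exists_kill (Algebra.WeaklyEtale.flat_lmul' A B)
    (fun x => ⟨x ⊗ₜ 1, by simp⟩) a ha
  have hu : 1 - s ∈ KaehlerDifferential.ideal A B := by
    show Algebra.TensorProduct.lmul' A (S := B) _ = 0
    rw [map_sub, map_one]; exact sub_eq_zero.2 hs.symm
  have key : a = a * (1 - s) := by rw [mul_sub, mul_one, mul_comm a s, hsa, sub_zero]
  rw [key]
  exact Ideal.mul_mem_mul ha hu

theorem etale_of_fg {K : Type u} [Field K] {B : Type u} [CommRing B] [Algebra K B] [Algebra.WeaklyEtale K B]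
    (S : Subalgebra K B) (hS : S.FG) : Algebra.Etale K S := by
  haveI : Algebra.WeaklyEtale K S := weaklyEtale_of_injective S.val Subtype.val_injective
  haveI : Algebra.FiniteType K S := ⟨(Subalgebra.fg_top S).2 hS⟩
  haveI := formallyUnramified_of_weaklyEtale K S
  haveI : Algebra.FormallyEtale K S := Algebra.FormallyEtale.of_formallyUnramified_of_field K S
  haveI : Algebra.FinitePresentation K S := Algebra.FinitePresentation.of_finiteType.1 inferInstance
  exact ⟨inferInstance, inferInstance⟩

theorem isIndEtale_of_weaklyEtale (K : Type u) [Field K] (B : Type u) [CommRing B] [Algebra K B]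
    [Algebra.WeaklyEtale K B] : EtPBC.IsIndEtale K B := by
  classical
  rw [ProEtLib2.isIndEtale_iff]
  let F : Finset B ⥤ CommRingCat.{u} :=
    { obj := fun S => CommRingCat.of (Algebra.adjoin K (S : Set B))
      map := fun {S T} h => CommRingCat.ofHom (Subalgebra.inclusion (Algebra.adjoin_mono
        (Finset.coe_subset.mpr h.le))).toRingHom
      map_id := fun S => by ext x; rfl
      map_comp := fun h h' => by ext x; rfl }
  let t : (Functor.const _).obj (CommRingCat.of K) ⟶ F :=
    { app := fun S => CommRingCat.ofHom (algebraMap K (Algebra.adjoin K (S : Set B)))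
      naturality := fun S T h => by ext x; rfl }
  let s : F ⟶ (Functor.const _).obj (CommRingCat.of B) :=
    { app := fun S => CommRingCat.ofHom (Algebra.adjoin K (S : Set B)).val.toRingHom
      naturality := fun S T h => by ext x; rfl }
  obtain ⟨hc⟩ := AffLim.nonempty_isColimit_of_elementwise (Cocone.mk _ s)
    (fun x => ⟨{x}, ⟨x, Algebra.subset_adjoin (by simp)⟩, rfl⟩)
    (fun S x y e => ⟨S, le_rfl, by rw [show x = y from Subtype.ext e]⟩)
  refine ⟨Finset B, inferInstance, inferInstance, F, t, s, hc, fun S => ⟨?_, rfl⟩⟩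
  haveI := etale_of_fg (Algebra.adjoin K (S : Set B)) (Subalgebra.fg_adjoin_finset S)
  exact ProEtLib2.etaleProp_ofHom.2 inferInstance

theorem weaklyEtale_descend (A B C : Type u) [CommRing A] [CommRing B] [CommRing C] [Algebra A B]
    [Algebra B C] [Algebra A C] [IsScalarTower A B C] [Module.FaithfullyFlat B C] [Algebra.WeaklyEtale A C] :
    Algebra.WeaklyEtale A B := by
  haveI : Module.Flat A B := FlatDescStalk.flat_of_comp_faithfullyFlat A B C
  let φ : B →ₐ[A] C := IsScalarTower.toAlgHom A B C
  have hφ : φ.Flat := RingHom.flat_algebraMap_iff.2 (inferInstance : Module.Flat B C)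
  letI := (Algebra.TensorProduct.lmul' A (S := B)).toRingHom.toAlgebra
  letI : Algebra (B ⊗[A] B) C := ((algebraMap B C).comp (algebraMap (B ⊗[A] B) B)).toAlgebra
  haveI : IsScalarTower (B ⊗[A] B) B C := IsScalarTower.of_algebraMap_eq' rfl
  haveI : Module.Flat (B ⊗[A] B) C := by
    have heq : (algebraMap B C).comp (algebraMap (B ⊗[A] B) B) =
        (Algebra.TensorProduct.lmul' A (S := C)).toRingHom.comp (Algebra.TensorProduct.map φ φ).toRingHom := by
      refine RingHom.ext fun z => ?_
      show algebraMap B C (Algebra.TensorProduct.lmul' A (S := B) z) =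
        Algebra.TensorProduct.lmul' A (S := C) (Algebra.TensorProduct.map φ φ z)
      induction z using TensorProduct.induction_on with
      | zero => simp
      | tmul x y => simp [φ]
      | add x y hx hy => simp only [map_add, hx, hy]
    refine RingHom.flat_algebraMap_iff.1 ?_
    show ((algebraMap B C).comp (algebraMap (B ⊗[A] B) B)).Flat
    rw [heq]
    exact RingHom.Flat.comp (RingHom.Flat.tensorProductMap hφ hφ) (Algebra.WeaklyEtale.flat_lmul' A C)
  exact ⟨inferInstance, FlatDescStalk.flat_of_comp_faithfullyFlat (B ⊗[A] B) B C⟩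

end Groth.Agent.WEField
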